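import Cfsg.Agent.H335.Sd.LemB
import Cfsg.Agent.H775.Sd.FrameElem
import Cfsg.Agent.H55.Sd.Iface

/-!
# S4579, frames: realness (helper335)

`real_of_frame` : `R` a root group datum of `Y`, a frame with a `2`-group `P` of permutations, `M = E.N_P`; `Q ≤ M` a Sylow
`2`-subgroup of `Y` containing the `2`-elements of the torus; the generators of `P` are represented by involutions. Then a
linear character of `Q` which is real on `Q ∩ T` is real.
-/

set_option autoImplicit false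
set_option linter.unusedSectionVars false

namespace Cfsg.Agent.H335.Sd.Frame

open CoxeterSystem Cfsg.Agent.ChevalleyStructure.CoxeterGeom Cfsg.Agent.Tits.Roots Cfsg.Agent.Tits.Core
  Cfsg.Agent.Nodes.Reps Cfsg.Agent.Nodes.BNOf Cfsg.Agent.Nodes.Bruhat Cfsg.Agent.Nodes.FreeTorus
  Cfsg.Agent.ClosedTwo.Torus Cfsg.Agent.ClosedTwo.Elem Cfsg.Agent.ClosedExc Cfsg.Agent.ClosedExc.Rk
  Cfsg.Agent.ClosedExc.Prod Cfsg.Agent.ClosedExc.Frame Cfsg.Agent.H643.Sd Cfsg.Agent.H335.Sd.LemA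
  Cfsg.Agent.H335.Sd.LemB Cfsg.Agent.H775.Sd.FrameElem

variable {I W Y : Type*} [Fintype I] [DecidableEq I] [Group W] [Group Y] {M : CoxeterMatrix I}
  {cs : CoxeterSystem M W} {C : I → I → ℤ} {h : IsCartan M C} {p : ℕ} {T : Subgroup Y} {n : I → Y}
  {X : (I → ℤ) → Subgroup Y} (R : RGD cs h p T n X) [Finite W] [Finite Y]
  {ι : Type*} [Fintype ι] {β : ι → (I → ℤ)} {P : Subgroup W} (F : FrameData cs h X β P)

/-- The frame group. -/
def FM (R : RGD cs h p T n X) (β : ι → (I → ℤ)) (P : Subgroup W) : Subgroup Y := (⨆ a, LL X (β a)) ⊔ NP R P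

include F in
theorem mem_FM {x : Y} : x ∈ FM R β P ↔ ∃ y ∈ ⨆ a, LL X (β a), ∃ w ∈ P, ∃ g, Rp cs R.nsys w g ∧ x = y * g := by
  constructor
  · intro hx
    have hx' : x ∈ (((⨆ a, LL X (β a)) ⊔ NP R P : Subgroup Y) : Set Y) := hx
    rw [Subgroup.coe_mul_of_right_le_normalizer_left _ _ (NP_le_normalizer R F), Set.mem_mul] at hx'
    obtain ⟨y, hy, g, ⟨w, hw, hg⟩, rfl⟩ := hx'
    exact ⟨y, hy, w, hw, g, hg, rfl⟩
  · rintro ⟨y, hy, w, hw, g, hg, rfl⟩
    exact mul_mem (Subgroup.mem_sup_left hy) (Subgroup.mem_sup_right ⟨w, hw, hg⟩)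

/-- `x` lies over `w` -/
def Ov (R : RGD cs h p T n X) (β : ι → (I → ℤ)) (w : W) (x : Y) : Prop :=
  ∃ y ∈ ⨆ a, LL X (β a), ∃ g, Rp cs R.nsys w g ∧ x = y * g

include F in
theorem Ov.mul {v w : W} (hv : v ∈ P) {a b : Y} (ha : Ov R β v a) (hb : Ov R β w b) :
    Ov R β (v * w) (a * b) := by
  obtain ⟨y, hy, g, hg, rfl⟩ := ha
  obtain ⟨z, hz, k, hk, rfl⟩ := hb
  have h1 : g * z * g⁻¹ ∈ ⨆ a, LL X (β a) :=
    (Subgroup.mem_normalizer_iff.1 (NP_le_normalizer R F ⟨v, hv, hg⟩) z).1 hz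
  exact ⟨y * (g * z * g⁻¹), mul_mem hy h1, g * k, hg.mul hk, by group⟩

include F in
theorem Ov.inv {v : W} (hv : v ∈ P) {a : Y} (ha : Ov R β v a) : Ov R β v⁻¹ a⁻¹ := by
  obtain ⟨y, hy, g, hg, rfl⟩ := ha
  have h1 : g⁻¹ * y⁻¹ * g⁻¹⁻¹ ∈ ⨆ a, LL X (β a) :=
    (Subgroup.mem_normalizer_iff.1 (NP_le_normalizer R F ⟨v⁻¹, inv_mem hv, hg.inv⟩) y⁻¹).1 (inv_mem hy)
  exact ⟨_, h1, g⁻¹, hg.inv, by group⟩

include F in
theorem Ov.one_iff {a : Y} : Ov R β (1 : W) a ↔ a ∈ (⨆ a, LL X (β a)) ⊔ T := by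
  constructor
  · rintro ⟨y, hy, g, hg, rfl⟩
    exact mul_mem (Subgroup.mem_sup_left hy) (Subgroup.mem_sup_right hg.mem_of_one)
  · intro ha
    have ha' : a ∈ (((⨆ a, LL X (β a)) ⊔ T : Subgroup Y) : Set Y) := ha
    rw [Subgroup.coe_mul_of_right_le_normalizer_left _ _ ((T_le_NP R).trans (NP_le_normalizer R F)), Set.mem_mul] at ha'
    obtain ⟨y, hy, t, ht, rfl⟩ := ha'
    exact ⟨y, hy, t, rp_of_mem ht, rfl⟩

include F in
/-- `H = E T` is normal in `M`. -/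
theorem H_normal {m : Y} (hm : m ∈ FM R β P) {x : Y} (hx : x ∈ (⨆ a, LL X (β a)) ⊔ T) :
    m * x * m⁻¹ ∈ (⨆ a, LL X (β a)) ⊔ T := by
  obtain ⟨y, hy, w, hw, g, hg, rfl⟩ := (mem_FM R F).1 hm
  have h1 : Ov R β w (y * g) := ⟨y, hy, g, hg, rfl⟩
  have h2 := (h1.mul R F hw ((Ov.one_iff R F).2 hx)).mul R F (by rw [mul_one]; exact hw) (h1.inv R F hw)
  rw [mul_one, mul_inv_cancel] at h2
  exact (Ov.one_iff R F).1 h2

include F in
/-- some power of two of an element of `M` lies in `H` -/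
theorem pow_mem_H (hP : IsPGroup 2 ↥P) {m : Y} (hm : m ∈ FM R β P) : ∃ k : ℕ, m ^ 2 ^ k ∈ (⨆ a, LL X (β a)) ⊔ T := by
  obtain ⟨y, hy, w, hw, g, hg, rfl⟩ := (mem_FM R F).1 hm
  have h1 : Ov R β w (y * g) := ⟨y, hy, g, hg, rfl⟩
  obtain ⟨k, hk⟩ := hP ⟨w, hw⟩
  have hk' : w ^ 2 ^ k = 1 := congrArg Subtype.val hk
  have h2 : ∀ j : ℕ, Ov R β (w ^ j) ((y * g) ^ j) := by
    intro j
    induction j with
    | zero => rw [pow_zero, pow_zero]; exact (Ov.one_iff R F).2 (one_mem _)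
    | succ j ih => rw [pow_succ, pow_succ]; exact ih.mul R F (pow_mem hw j) h1
  refine ⟨k, ?_⟩
  have h3 := h2 (2 ^ k)
  rw [hk'] at h3
  exact (Ov.one_iff R F).1 h3

include F in
/-- `M = Q H` -/
theorem exists_mem_Q (hP : IsPGroup 2 ↥P) (Q : Sylow 2 Y) (hQ : (Q : Subgroup Y) ≤ FM R β P) {m : Y}
    (hm : m ∈ FM R β P) : ∃ x ∈ (Q : Subgroup Y), ∃ y ∈ (⨆ a, LL X (β a)) ⊔ T, m = x * y := by
  classical
  set H : Subgroup Y := (⨆ a, LL X (β a)) ⊔ T with hH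
  have hHM : H ≤ FM R β P := sup_le le_sup_left ((T_le_NP R).trans le_sup_right)
  have hN : (H.subgroupOf (FM R β P)).Normal := by
    refine ⟨fun x hx g => ?_⟩
    rw [Subgroup.mem_subgroupOf] at hx ⊢
    exact H_normal R F g.2 hx
  have hq : IsPGroup 2 (↥(FM R β P) ⧸ H.subgroupOf (FM R β P)) := by
    intro y
    obtain ⟨⟨x, hx⟩, rfl⟩ := QuotientGroup.mk'_surjective _ y
    obtain ⟨k, hk⟩ := pow_mem_H R F hP hx
    refine ⟨k, ?_⟩
    rw [← map_pow]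
    exact (QuotientGroup.eq_one_iff _).2 (Subgroup.mem_subgroupOf.2 hk)
  set S : Sylow 2 (↥(FM R β P) ⧸ H.subgroupOf (FM R β P)) :=
    (Q.subtype hQ).mapSurjective (QuotientGroup.mk'_surjective (H.subgroupOf (FM R β P))) with hS
  have hS1 : (S : Subgroup (↥(FM R β P) ⧸ H.subgroupOf (FM R β P))) = ⊤ :=
    (S.is_maximal' (hq.to_subgroup ⊤) le_top).symm
  have hS2 : (S : Subgroup (↥(FM R β P) ⧸ H.subgroupOf (FM R β P))) =
      ((Q.subtype hQ : Sylow 2 ↥(FM R β P)) : Subgroup ↥(FM R β P)).map (QuotientGroup.mk' _) :=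
    Sylow.coe_mapSurjective _ _
  have h1 : QuotientGroup.mk' (H.subgroupOf (FM R β P)) ⟨m, hm⟩ ∈
      ((Q.subtype hQ : Sylow 2 ↥(FM R β P)) : Subgroup ↥(FM R β P)).map (QuotientGroup.mk' _) := by
    rw [← hS2, hS1]
    exact Subgroup.mem_top _
  obtain ⟨⟨x, hx⟩, hxQ, e⟩ := h1
  have hxQ' : x ∈ (Q : Subgroup Y) := by
    have := hxQ
    rwa [Sylow.coe_subtype] at this
  have h2 : (⟨x, hx⟩ : ↥(FM R β P))⁻¹ * ⟨m, hm⟩ ∈ H.subgroupOf (FM R β P) := QuotientGroup.eq.1 e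
  exact ⟨x, hxQ', x⁻¹ * m, Subgroup.mem_subgroupOf.1 h2, by group⟩

include F in
/-- **The frame lemma, realness.** -/
theorem real_of_frame (hSL : ∀ i, IsSL (LL X (sr i))) (hP : IsPGroup 2 ↥P) {Γ : Set W} (hPΓ : P = Subgroup.closure Γ)
    (hΓ : ∀ w ∈ Γ, ∃ g, Rp cs R.nsys w g ∧ g * g = 1) (Q : Sylow 2 Y) (hQ : (Q : Subgroup Y) ≤ FM R β P)
    (hT : ∀ t ∈ T, (∃ k : ℕ, t ^ 2 ^ k = 1) → t ∈ (Q : Subgroup Y)) (f : (Q : Subgroup Y) →* ℂˣ)
    (hf : ∀ x : (Q : Subgroup Y), (x : Y) ∈ T → f x ^ 2 = 1) : ∀ x, f x ^ 2 = 1 := by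
  classical
  set E : Subgroup Y := ⨆ a, LL X (β a) with hE
  have hSL' : ∀ x, IsRoot cs h x → IsSL (LL X x) := fun x hx => isSL_of_root R hSL hx
  have hEE : Elem ↥E := elem_iSup (fun a => elem_of_isSL (hSL' _ (F.root a))) F.orth
  have hEM : E ≤ FM R β P := le_sup_left
  have hEn : ∀ m ∈ FM R β P, ∀ x ∈ E, m * x * m⁻¹ ∈ E := by
    intro m hm x hx
    have h1 : FM R β P ≤ Subgroup.normalizer (E : Set Y) := sup_le Subgroup.le_normalizer (NP_le_normalizer R F)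
    exact (Subgroup.mem_normalizer_iff.1 (h1 hm) x).1 hx
  have hQE : ¬ 2 ∣ (Q : Subgroup Y).relIndex E := by
    refine not_dvd_relIndex_of _ Q.2 hEM hEn ?_
    intro h1
    have : Fact (Nat.Prime 2) := ⟨Nat.prime_two⟩
    exact (Q.subtype hQ).not_dvd_index h1
  -- `f` is real on `Q ∩ H`
  have hH : ∀ x : (Q : Subgroup Y), (x : Y) ∈ E ⊔ T → f x ^ 2 = 1 := by
    refine real_on_sup Q E T ?_ hT f (fun x hx => real_of_elem Q hEE hQE f x hx) hf
    intro t ht x hx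
    exact hEn t (hEM.trans le_rfl |> fun _ => Subgroup.mem_sup_right (T_le_NP R ht)) x hx
  -- the elements over the elements of `P`
  have key : ∀ w ∈ Subgroup.closure Γ, ∀ x : (Q : Subgroup Y), Ov R β w (x : Y) → f x ^ 2 = 1 := by
    intro w hw
    induction hw using Subgroup.closure_induction with
    | mem w hw =>
      intro x hx
      obtain ⟨g, hg, hgg⟩ := hΓ w hw
      have hwP : w ∈ P := by rw [hPΓ]; exact Subgroup.subset_closure hw
      have hgM : g ∈ FM R β P := Subgroup.mem_sup_right ⟨w, hwP, hg⟩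
      have hgO : Ov R β w g := ⟨1, one_mem _, g, hg, (one_mul g).symm⟩
      obtain ⟨y, hy, hyQ⟩ := exists_conj_mem Q (E ⊔ T) (fun a ha b hb => H_normal R F (hQ ha) hb) (e := g) (k := 1)
        (by rw [pow_one, pow_two, hgg]) (exists_mem_Q R F hP Q hQ hgM)
      have hyO : Ov R β 1 y := (Ov.one_iff R F).2 hy
      have h1 : Ov R β w (y * g * y⁻¹) := by
        have h2 := (hyO.mul R F (one_mem _) hgO).mul R F (by rw [one_mul]; exact hwP) (hyO.inv R F (one_mem _))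
        rwa [one_mul, inv_one, mul_one] at h2
      set z : (Q : Subgroup Y) := ⟨y * g * y⁻¹, hyQ⟩ with hz
      have hfz : f z ^ 2 = 1 := by
        rw [← map_pow]
        have h2 : z ^ 2 = 1 := by
          apply Subtype.ext
          show (y * g * y⁻¹) ^ 2 = 1
          rw [pow_two]
          calc y * g * y⁻¹ * (y * g * y⁻¹) = y * (g * g) * y⁻¹ := by group
            _ = 1 := by rw [hgg]; group
        rw [h2, map_one]
      have h3 : f (x * z⁻¹) ^ 2 = 1 := by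
        apply hH
        have h4 := hx.mul R F hwP (h1.inv R F hwP)
        rw [mul_inv_cancel] at h4
        exact (Ov.one_iff R F).1 h4
      have h4 : f x = f (x * z⁻¹) * f z := by rw [← map_mul, inv_mul_cancel_right]
      rw [h4, mul_pow, hfz, h3, one_mul]
    | one =>
      intro x hx
      exact hH x ((Ov.one_iff R F).1 hx)
    | mul v w hv hw ihv ihw =>
      intro x hx
      have hvP : v ∈ P := by rw [hPΓ]; exact hv
      have hwP : w ∈ P := by rw [hPΓ]; exact hw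
      -- an element of `Q` over `w`
      obtain ⟨g, hg⟩ := exists_rp cs R.nsys w
      obtain ⟨a, ha, b, hb, e⟩ := exists_mem_Q R F hP Q hQ (m := g) (Subgroup.mem_sup_right ⟨w, hwP, hg⟩)
      have haO : Ov R β w a := by
        have h1 : Ov R β w g := ⟨1, one_mem _, g, hg, (one_mul g).symm⟩
        have h2 := h1.mul R F hwP (((Ov.one_iff R F).2 hb).inv R F (one_mem _))
        rw [inv_one, mul_one, e, mul_inv_cancel_right] at h2
        exact h2
      have h1 := ihw ⟨a, ha⟩ haO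
      have h2 : f (x * (⟨a, ha⟩ : (Q : Subgroup Y))⁻¹) ^ 2 = 1 := by
        apply ihv
        have h3 := hx.mul R F (mul_mem hvP hwP) (haO.inv R F hwP)
        rwa [mul_inv_cancel_right] at h3
      have h4 : f x = f (x * (⟨a, ha⟩ : (Q : Subgroup Y))⁻¹) * f ⟨a, ha⟩ := by
        rw [← map_mul, inv_mul_cancel_right]
      rw [h4, mul_pow, h1, h2, one_mul]
    | inv w hw ih =>
      intro x hx
      have hwP : w ∈ P := by rw [hPΓ]; exact hw
      have h1 := hx.inv R F (inv_mem hwP)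
      rw [inv_inv] at h1
      have h2 := ih x⁻¹ h1
      rw [map_inv, inv_pow, inv_eq_one] at h2
      exact h2
  intro x
  obtain ⟨y, hy, w, hw, g, hg, e⟩ := (mem_FM R F).1 (hQ x.2)
  exact key w (by rw [← hPΓ]; exact hw) x ⟨y, hy, g, hg, e⟩

end Cfsg.Agent.H335.Sd.Frame
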