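import Cfsg.Agent.H335.Sd.Frame
import Cfsg.Agent.H775.Sd.ChevElem

/-!
# S4579, frames: lifts of products of orthogonal reflections which are involutions (helper335)
-/

set_option autoImplicit false
set_option linter.unusedSectionVars false

namespace Cfsg.Agent.H335.Sd.Invol

open CoxeterSystem Cfsg.Agent.ChevalleyStructure.CoxeterGeom Cfsg.Agent.Tits.Roots Cfsg.Agent.Tits.Core
  Cfsg.Agent.Nodes.Reps Cfsg.Agent.Nodes.BNOf Cfsg.Agent.Nodes.Bruhat Cfsg.Agent.Nodes.FreeTorus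
  Cfsg.Agent.ClosedExc Cfsg.Agent.ClosedExc.Rk Cfsg.Agent.ClosedExc.Frame Cfsg.Agent.ClosedExc.WFr
  Cfsg.Agent.H557.LrSgn Cfsg.Agent.H775.Sd.Sgn Cfsg.Agent.H775.Sd.ChevElem

variable {l : ℕ} {W Y : Type*} [Group W] [Group Y] {M : CoxeterMatrix (Fin l)}
  {cs : CoxeterSystem M W} {C : Fin l → Fin l → ℤ} {h : IsCartan M C} {p : ℕ} {T : Subgroup Y} {n : Fin l → Y}
  {X : (Fin l → ℤ) → Subgroup Y} {AL : List (List ℤ)}

theorem par_append {q : List ℕ × ℕ} (w : List ℕ) :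
    par cs h (w ++ q.1, q.2) = (par cs h q).comp (rep cs h (wd cs w)⁻¹).toAddMonoidHom := by
  unfold par
  by_cases hi : q.2 < l
  · rw [dif_pos hi, dif_pos hi]
    refine DFunLike.ext _ _ fun x => ?_
    show ph C ⟨q.2, hi⟩ (rep cs h (wd cs (w ++ q.1))⁻¹ x) = ph C ⟨q.2, hi⟩ (rep cs h (wd cs q.1)⁻¹ (rep cs h (wd cs w)⁻¹ x))
    rw [wd_append, mul_inv_rev, rep_mul_apply]
  · rw [dif_neg hi, dif_neg hi]
    rfl

variable (R : RGD cs h p T n X)

include R

/-- **Lifting a product of orthogonal reflections to an involution.** -/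
theorem exists_invol (hA : IsTab C AL)
    (hs : ∀ i, ∃ m ∈ LL X (sr i), Rp cs R.nsys (cs.simple i) m ∧ SgnEl cs h T X (ph C i) (m * m))
    (hG : RGD.Sup X {x | IsRoot cs h x} = ⊤) (hZ : ∀ z : Y, (∀ y, z * y = y * z) → z = 1)
    {g : List (List ℕ × ℕ)} (hg : ∀ q ∈ g, q.2 < l)
    (hp : g.Pairwise (fun q r => LC X (toV l (rootOf AL l q)) (toV l (rootOf AL l r))))
    {a : List ℕ × ℕ} (ha : a.2 < l)
    (hpar : ∀ j < l, (((a :: (fw g ++ a.1, a.2) :: g).map (parZ AL l j)).sum) % 2 = 0) :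
    ∃ e, Rp cs R.nsys (wd cs (fw g)) e ∧ e * e = 1 := by
  obtain ⟨m, hr, hm, -⟩ := exists_lift R hA hs g hg hp
  obtain ⟨u, -, -, hu⟩ := lift_one R hA hs ha
  have h1 := hu.conj R hr
  rw [← par_append] at h1
  have h2 := sgn_mul hu (sgn_mul h1 hm)
  have h3 : par cs h a + (par cs h (fw g ++ a.1, a.2) + (g.map (par cs h)).sum) = 0 := by
    have h4 := sum_par_eq (cs := cs) (h := h) (g := a :: (fw g ++ a.1, a.2) :: g) (g' := []) hA ?_ (by simp) ?_
    · rw [List.map_cons, List.sum_cons, List.map_cons, List.sum_cons, List.map_nil, List.sum_nil] at h4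
      exact h4
    · intro q hq
      rcases List.mem_cons.1 hq with rfl | hq
      · exact ha
      rcases List.mem_cons.1 hq with rfl | hq
      · exact ha
      · exact hg q hq
    · intro j hj
      rw [List.map_nil, List.sum_nil, add_zero]
      exact hpar j hj
  rw [h3] at h2
  have h4 := sgn_ext hG hZ h2 sgn_one
  refine ⟨u * u * m, ?_, ?_⟩
  · have h5 := (rp_of_mem (cs := cs) (hN := R.nsys) hu.mem).mul hr
    rwa [one_mul] at h5
  · calc u * u * m * (u * u * m) = u * u * (m * (u * u) * m⁻¹ * (m * m)) := by group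
      _ = 1 := h4

end Cfsg.Agent.H335.Sd.Invol
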