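import Cfsg.Agent.H335.Sd.RealT
import Cfsg.Agent.H335.Sd.Invol

/-!
# S4579, frames: `E₆(q)`, `q` odd (helper335)
-/

set_option autoImplicit false
set_option linter.unusedSectionVars false
set_option maxRecDepth 100000

namespace Cfsg.Agent.H335.Sd.ESix

open CoxeterSystem Cfsg.Agent.ChevalleyStructure.CoxeterGeom Cfsg.Agent.Tits.Roots
  Cfsg.Agent.Nodes.Reps Cfsg.Agent.Nodes.BNOf Cfsg.Agent.Nodes.FreeTorus Cfsg.Agent.Nodes.Bruhat
open Cfsg.Lie Cfsg.Agent.ChevalleyStructure Cfsg.Agent.ChevalleyStructure.Elts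
  Cfsg.Agent.ChevalleyStructure.NPerm Cfsg.Agent.Nodes.RGDChev Cfsg.Agent.ChevalleyStructure.CoxeterGeomTypes
open Cfsg.Agent.ClosedExc Cfsg.Agent.ClosedExc.Frame Cfsg.Agent.ClosedExc.WFr Cfsg.Agent.ClosedExc.Chev
open Cfsg.Agent.H557.LrSgn Cfsg.Agent.H775.Sd.Sgn Cfsg.Agent.H775.Sd.ChevElem Cfsg.Agent.H643.Sd Cfsg.Agent.H55.Sd
open Cfsg.Agent.KFacts.RgdChevCoord (nc xc ch coords)
open Cfsg.Agent.H335.Sd.LemA Cfsg.Agent.H335.Sd.Frame Cfsg.Agent.H335.Sd.Invol Cfsg.Agent.H335.Sd.RealT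
open Cfsg.Agent.ClosedExc.Families

/-- The check for the involutions. -/
def ChkI (l k : ℕ) (c : Cert) : Prop := ∀ g ∈ c.G, ∃ a < k, ∀ j < l,
  (((c.FR.getD a ([], 0) :: (fw g.1 ++ (c.FR.getD a ([], 0)).1, (c.FR.getD a ([], 0)).2) :: g.1).map
    (parZ c.AL l j)).sum) % 2 = 0

/-- the roots of the frame -/
def bet (l : ℕ) (c : Cert) (k : ℕ) (a : Fin k) : Fin l → ℤ := toV l (c.T.getD a [])

section main

variable {D : ChevalleyDatum} {l : ℕ} {M : CoxeterMatrix (Fin l)} (hp : IsType D l M) {K : Type} [Field K] [Fintype K]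
  (p : ℕ) [Fact p.Prime] [CharP K p] {W : Type*} [Group W] [Finite W] (cs : CoxeterSystem M W)

theorem frameData {k N : ℕ} {c : Cert} (hA : IsTab (cartanOf D l) c.AL) (hc : Ok l k N c)
    (hO1 : ∀ a < k, ∀ b < k, a ≠ b → Orth D l (toV l (c.T.getD a [])) (toV l (c.T.getD b []))) :
    FrameData cs hp.isCartan (Chev.XX D l K) (bet l c k) (Subgroup.closure (Gm cs c)) := by
  obtain ⟨f1, f2, f3, f4⟩ := wframe' cs hp.isCartan hA hc
  exact ⟨fun a => f1 a a.2, fun a b hab => Chev.lc_of_orth hp K (hO1 a a.2 b b.2 fun e => hab (Fin.ext e)), f2, f3⟩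

/-- realness, for the Chevalley groups with a certificate -/
theorem real_chev (hK : Odd (Fintype.card K)) (hcen : ∀ z : ↥(D.group K), (∀ y, z * y = y * z) → z = 1)
    {k s : ℕ} {c : Cert} (hA : IsTab (cartanOf D l) c.AL) (hc : Ok l k (2 ^ s) c) (hk : ChkI l k c)
    (hO1 : ∀ a < k, ∀ b < k, a ≠ b → Orth D l (toV l (c.T.getD a [])) (toV l (c.T.getD b [])))
    (hO2 : ∀ g ∈ c.G, g.1.Pairwise fun p q => Orth D l (toV l (rootOf c.AL l p)) (toV l (rootOf c.AL l q)))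
    (Q : Sylow 2 ↥(D.group K))
    (hQ : (Q : Subgroup ↥(D.group K)) ≤ FM (rgd (K := K) hp cs p) (bet l c k) (Subgroup.closure (Gm cs c)))
    (hT : ∀ t ∈ TG D K, (∃ k : ℕ, t ^ 2 ^ k = 1) → t ∈ (Q : Subgroup ↥(D.group K)))
    (f : (Q : Subgroup ↥(D.group K)) →* ℂˣ)
    (hf : ∀ x : (Q : Subgroup ↥(D.group K)), (x : ↥(D.group K)) ∈ TG D K → f x ^ 2 = 1) : ∀ x, f x ^ 2 = 1 := by
  obtain ⟨f1, f2, f3, f4⟩ := wframe' cs hp.isCartan hA hc
  refine real_of_frame (rgd (K := K) hp cs p) (frameData hp cs hA hc hO1) (fun i => Chev.isSL hp K hK i)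
    (IsPGroup.of_card f4) rfl ?_ Q hQ hT f hf
  rintro w ⟨g, hg, rfl⟩
  obtain ⟨a, ha, hpar⟩ := hk g hg
  exact exists_invol (rgd (K := K) hp cs p) hA (simple_lift (K := K) hp p cs) (G1_eq_top (K := K) hp cs) hcen
    (hc.gl g hg) ((hO2 g hg).imp fun ho => Chev.lc_of_orth hp K ho) (hc.fr a ha).1 hpar

end main

theorem chkIE6 : ChkI 6 4 cE6 := by unfold ChkI; decide +kernel

section rows

variable (K : Type) [Field K] [Fintype K] (hK : Odd (Fintype.card K)) (p : ℕ) [Fact p.Prime] [CharP K p]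

/-- the frame group of `E₆(q)` -/
noncomputable def ME6 : Subgroup ↥(chevE6.group K) :=
  FM (rgd (K := K) isType_E6 CoxeterMatrix.E₆.toCoxeterSystem p) (bet 6 cE6 4)
    (Subgroup.closure (Gm CoxeterMatrix.E₆.toCoxeterSystem cE6))

instance : Finite CoxeterMatrix.E₆.Group := finite_W isType_E6 CoxeterMatrix.E₆.toCoxeterSystem

include hK

theorem realE6 (Q : Sylow 2 ↥(chevE6.group K)) (hQ : (Q : Subgroup ↥(chevE6.group K)) ≤ ME6 K p)
    (hT : ∀ t ∈ TG chevE6 K, (∃ k : ℕ, t ^ 2 ^ k = 1) → t ∈ (Q : Subgroup ↥(chevE6.group K)))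
    (f : (Q : Subgroup ↥(chevE6.group K)) →* ℂˣ)
    (hf : ∀ x : (Q : Subgroup ↥(chevE6.group K)), (x : ↥(chevE6.group K)) ∈ TG chevE6 K → f x ^ 2 = 1) :
    ∀ x, f x ^ 2 = 1 :=
  real_chev isType_E6 p CoxeterMatrix.E₆.toCoxeterSystem hK (cen_of_simple (S1054.result chevE6 (by simp)))
    (s := 3) tabE6 okE6 chkIE6 (fun a ha b hb hab => orth_of (orth1E6 a ha b hb hab))
    (fun g hg => (orth2E6 g hg).imp fun h => orth_of h) Q hQ hT f hf

/-- **`RealOnT` for `E₆(q)`, `q` odd.** -/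
theorem realOnT_E6 (U : Subgroup ↥(chevE6.group K)) : RealOnT U (TG chevE6 K) (cjSet (TG chevE6 K) (ME6 K p)) :=
  realOnT_of U _ _ fun Q hQ hT f hf => realE6 K hK p Q hQ hT f hf

/-- the frame group has odd index -/
theorem odd_index_ME6 : Odd (ME6 K p).index := by
  have h4 := (wframe' CoxeterMatrix.E₆.toCoxeterSystem isType_E6.isCartan tabE6 okE6).2.2.2
  refine Cfsg.Agent.H775.Sd.FrameElem.odd_index (rgd (K := K) isType_E6 CoxeterMatrix.E₆.toCoxeterSystem p)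
    (frameData isType_E6 (K := K) CoxeterMatrix.E₆.toCoxeterSystem tabE6 okE6
      (fun a ha b hb hab => orth_of (orth1E6 a ha b hb hab))) (G1_eq_top (K := K) isType_E6 _)
    (fun i => Chev.isSL isType_E6 K hK i) ?_
  intro m hm
  have h8 := Orders.ord_E6 hK (three_le hK) (Nat.gcd_pos_of_pos_left _ (by norm_num)).ne' (S1063.result (F := K) rfl)
    (S1035.result (F := K) rfl (chevE6, Nat.gcd 3 (Fintype.card K - 1)) (by simp)) m hm
  have hT : Nat.card (TG chevE6 K) = Nat.card ↥(chevE6.diagonalSubgroup K) :=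
    Nat.card_congr (Subgroup.subgroupOfEquivOfLe (Cfsg.Agent.ChevalleyStructure.Elts.diagonal_le_group
      isType_E6.inList K)).toEquiv
  have h9 : ∀ a : Fin 4, Nat.card (Chev.XX chevE6 6 K (bet 6 cE6 4 a)) = Fintype.card K :=
    fun a => Chev.card_XX isType_E6 K CoxeterMatrix.E₆.toCoxeterSystem
      ((wframe' CoxeterMatrix.E₆.toCoxeterSystem isType_E6.isCartan tabE6 okE6).1 a a.2)
  rw [hT, h4]
  simp only [h9, Finset.prod_const, Finset.card_univ, Fintype.card_fin]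
  exact h8

end rows

end Cfsg.Agent.H335.Sd.ESix
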