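import Cfsg.Agent.H643.Sd.Def
import Mathlib.GroupTheory.Sylow
import Mathlib.GroupTheory.Perm.Fin
import Mathlib.Tactic

/-!
# S4579, frames: realness lemmas for linear characters of Sylow `2`-subgroups (helper335)

* `real_of_perm` : lifting of involutions from `M / H ≤ Sym(4)`;
* `real_on_sup` : `f` real on `Q ∩ N₁` and on `Q ∩ T` is real on `Q ∩ N₁ T`;
* `real_on_blocks` : `f` is real on `Q ∩ K₁ ⋯ K₄` (commuting subgroups with `Elem`).
-/

set_option autoImplicit false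

namespace Cfsg.Agent.H335.Sd.LemA

open Cfsg.Agent.H643.Sd

variable {Y : Type*} [Group Y] [Finite Y]

/-- If `e` is a `2`-element with `e ∈ Q H`, `Q` normalising `H`, then some `H`-conjugate of `e` lies in `Q`. -/
theorem exists_conj_mem (Q : Sylow 2 Y) (H : Subgroup Y) (hQH : ∀ x ∈ (Q : Subgroup Y), ∀ y ∈ H, x * y * x⁻¹ ∈ H)
    {e : Y} {k : ℕ} (he2 : e ^ 2 ^ k = 1) (he : ∃ x ∈ (Q : Subgroup Y), ∃ y ∈ H, e = x * y) :
    ∃ y ∈ H, y * e * y⁻¹ ∈ (Q : Subgroup Y) := by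
  classical
  set L : Subgroup Y := (Q : Subgroup Y) ⊔ H with hL
  have hn : (Q : Subgroup Y) ≤ Subgroup.normalizer (H : Set Y) := by
    intro x hx
    rw [Subgroup.mem_normalizer_iff]
    intro y
    refine ⟨fun hy => hQH x hx y hy, fun hy => ?_⟩
    have h1 := hQH x⁻¹ (inv_mem hx) _ hy
    have h2 : x⁻¹ * (x * y * x⁻¹) * x⁻¹⁻¹ = y := by group
    rwa [h2] at h1
  have hQL : (Q : Subgroup Y) ≤ L := le_sup_left
  obtain ⟨x, hx, y, hy, rfl⟩ := he
  have heL : x * y ∈ L := mul_mem (hQL hx) (Subgroup.mem_sup_right hy)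
  -- `Q` is Sylow in `L`
  let QL : Sylow 2 L := Q.subtype hQL
  have hp : IsPGroup 2 (Subgroup.zpowers (⟨x * y, heL⟩ : L)) := by
    rw [IsPGroup.iff_card]
    have h1 : orderOf (⟨x * y, heL⟩ : L) ∣ 2 ^ k := by
      apply orderOf_dvd_of_pow_eq_one
      apply Subtype.ext
      simpa using he2
    rw [Nat.card_zpowers]
    exact ((Nat.dvd_prime_pow Nat.prime_two).1 h1).imp fun n hn => hn.2
  obtain ⟨P, hP⟩ := hp.exists_le_sylow
  obtain ⟨g, hg⟩ := MulAction.exists_smul_eq L P QL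
  have h1 : g * ⟨x * y, heL⟩ * g⁻¹ ∈ (QL : Subgroup L) := by
    rw [← hg]
    have h2 : (⟨x * y, heL⟩ : L) ∈ (P : Subgroup L) := hP (Subgroup.mem_zpowers _)
    rw [Sylow.smul_def, Sylow.pointwise_smul_def]
    exact Subgroup.smul_mem_pointwise_smul _ (MulAut.conj g) _ h2
  have h2 : (g : Y) * (x * y) * (g : Y)⁻¹ ∈ (Q : Subgroup Y) := by
    have := h1
    rwa [Sylow.coe_subtype, Subgroup.mem_subgroupOf] at this
  obtain ⟨a, ha, b, hb, hab⟩ : ∃ a ∈ (Q : Subgroup Y), ∃ b ∈ H, a * b = (g : Y) := by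
    have h3 : (g : Y) ∈ ((((Q : Subgroup Y) ⊔ H : Subgroup Y)) : Set Y) := g.2
    rw [Subgroup.coe_mul_of_left_le_normalizer_right _ _ hn, Set.mem_mul] at h3
    exact h3
  refine ⟨b, hb, ?_⟩
  have h3 : b * (x * y) * b⁻¹ = a⁻¹ * ((g : Y) * (x * y) * (g : Y)⁻¹) * a := by
    rw [← hab]; group
  rw [h3]
  exact mul_mem (mul_mem (inv_mem ha) h2) ha

/-- the Klein four-group in `Sym(4)` -/
def V4 : Finset (Equiv.Perm (Fin 4)) :=
  {1, Equiv.swap 0 1 * Equiv.swap 2 3, Equiv.swap 0 2 * Equiv.swap 1 3, Equiv.swap 0 3 * Equiv.swap 1 2}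

theorem V4_mul : ∀ a ∈ V4, ∀ b ∈ V4, a * b ∈ V4 := by decide +kernel

theorem V4_sq : ∀ a ∈ V4, a * a = 1 := by decide +kernel

theorem V4_conj : ∀ g : Equiv.Perm (Fin 4), ∀ a ∈ V4, g * a * g⁻¹ ∈ V4 := by decide +kernel

theorem V4_split : ∀ x : Equiv.Perm (Fin 4), ∃ v ∈ V4, x ^ 4 = 1 → (x * v) * (x * v) = 1 := by decide +kernel

theorem V4_one : (1 : Equiv.Perm (Fin 4)) ∈ V4 := by decide

def V : Subgroup (Equiv.Perm (Fin 4)) where
  carrier := {a | a ∈ V4}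
  mul_mem' := fun ha hb => V4_mul _ ha _ hb
  one_mem' := V4_one
  inv_mem' := by
    intro a ha
    have h1 : a⁻¹ = a := inv_eq_of_mul_eq_one_left (V4_sq a ha)
    show a⁻¹ ∈ V4
    rw [h1]
    exact ha

theorem pow_four_of_two : ∀ x : Equiv.Perm (Fin 4), x ^ 8 = 1 → x ^ 4 = 1 := by decide +kernel

/-- an element of a `2`-subgroup of `Sym(4)` -/
theorem pow_four_of_isPGroup {P : Subgroup (Equiv.Perm (Fin 4))} (hP : IsPGroup 2 P) {x : Equiv.Perm (Fin 4)}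
    (hx : x ∈ P) : x ^ 4 = 1 := by
  apply pow_four_of_two
  obtain ⟨k, hk⟩ := hP ⟨x, hx⟩
  have h1 : x ^ 2 ^ k = 1 := by simpa using congrArg Subtype.val hk
  have h2 : orderOf x ∣ 2 ^ k := orderOf_dvd_of_pow_eq_one h1
  have h3 : orderOf x ∣ 24 := by
    have := orderOf_dvd_natCard x
    rwa [Nat.card_eq_fintype_card, Fintype.card_perm, Fintype.card_fin] at this
  obtain ⟨j, -, hj⟩ := (Nat.dvd_prime_pow Nat.prime_two).1 h2
  rw [hj] at h3
  have h4 : 2 ^ j ∣ 2 ^ 3 := by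
    have h5 : (2 ^ j).Coprime 3 := Nat.Coprime.pow_left j (by norm_num)
    have h6 : 2 ^ j ∣ 8 * 3 := h3
    exact h5.dvd_of_dvd_mul_right h6
  apply orderOf_dvd_iff_pow_eq_one.1
  rw [hj]
  exact h4

/-- **Lifting of involutions.** -/
theorem real_of_perm (Q : Sylow 2 Y) (M : Subgroup Y) (hQM : (Q : Subgroup Y) ≤ M) (ρ : M →* Equiv.Perm (Fin 4))
    (hsurj : Function.Surjective ρ)
    (hlift : ∀ s : Equiv.Perm (Fin 4), s * s = 1 → ∃ e : M, ρ e = s ∧ e * e = 1) (f : (Q : Subgroup Y) →* ℂˣ)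
    (hf : ∀ x : (Q : Subgroup Y), ρ ⟨x, hQM x.2⟩ = 1 → f x ^ 2 = 1) : ∀ x, f x ^ 2 = 1 := by
  classical
  set QM : Sylow 2 M := Q.subtype hQM with hQMd
  set H : Subgroup Y := ρ.ker.map M.subtype with hH
  have hQH : ∀ x ∈ (Q : Subgroup Y), ∀ y ∈ H, x * y * x⁻¹ ∈ H := by
    rintro x hx _ ⟨y, hy, rfl⟩
    refine ⟨⟨x, hQM hx⟩ * y * ⟨x, hQM hx⟩⁻¹, ?_, rfl⟩
    have hy' : ρ y = 1 := hy
    show ρ _ = 1
    rw [map_mul, map_mul, map_inv, hy', mul_one, mul_inv_cancel]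
  -- the involutions in the image of `Q`
  have key : ∀ x : (Q : Subgroup Y), ρ ⟨x, hQM x.2⟩ * ρ ⟨x, hQM x.2⟩ = 1 → f x ^ 2 = 1 := by
    intro x hx
    obtain ⟨e, he, he2⟩ := hlift _ hx
    obtain ⟨y, hy, hyQ⟩ := exists_conj_mem Q H hQH (e := (e : Y)) (k := 1)
      (by rw [pow_one, pow_two]; exact_mod_cast congrArg Subtype.val he2)
      ⟨x, x.2, (x : Y)⁻¹ * e, ⟨⟨x, hQM x.2⟩⁻¹ * e, by
        show ρ _ = 1
        rw [map_mul, map_inv, he, inv_mul_cancel], rfl⟩, by group⟩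
    obtain ⟨y, hy1, rfl⟩ := hy
    have hy' : ρ y = 1 := hy1
    set z : (Q : Subgroup Y) := ⟨M.subtype y * e * (M.subtype y)⁻¹, hyQ⟩ with hz
    have h1 : f z ^ 2 = 1 := by
      rw [← map_pow]
      have h2 : z ^ 2 = 1 := by
        apply Subtype.ext
        have h3 : (e : Y) * e = 1 := congrArg Subtype.val he2
        show (M.subtype y * (e : Y) * (M.subtype y)⁻¹) ^ 2 = 1
        rw [pow_two]
        calc M.subtype y * (e : Y) * (M.subtype y)⁻¹ * (M.subtype y * (e : Y) * (M.subtype y)⁻¹)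
            = M.subtype y * ((e : Y) * e) * (M.subtype y)⁻¹ := by group
          _ = 1 := by rw [h3]; group
      rw [h2, map_one]
    have h2 : f (x * z⁻¹) ^ 2 = 1 := by
      apply hf
      have h3 : (⟨((x * z⁻¹ : (Q : Subgroup Y)) : Y), hQM (x * z⁻¹).2⟩ : M) = ⟨x, hQM x.2⟩ * (y * e * y⁻¹)⁻¹ :=
        Subtype.ext rfl
      rw [h3, map_mul, map_inv, map_mul, map_mul, map_inv, hy', he]
      group
    have h3 : f x = f (x * z⁻¹) * f z := by
      rw [← map_mul, inv_mul_cancel_right]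
    rw [h3, mul_pow, h1, h2, one_mul]
  intro x
  -- the image of `Q` contains `V`
  have hVQ : ∀ v ∈ V4, ∃ y : (Q : Subgroup Y), ρ ⟨y, hQM y.2⟩ = v := by
    have h1 : V ≤ ((QM : Subgroup M).map ρ) := by
      set S' : Sylow 2 (Equiv.Perm (Fin 4)) := QM.mapSurjective hsurj with hS'
      have h2 : (S' : Subgroup (Equiv.Perm (Fin 4))) = (QM : Subgroup M).map ρ := Sylow.coe_mapSurjective _ _
      rw [← h2]
      have hVn : V.Normal := ⟨fun a ha g => V4_conj g a ha⟩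
      have hVp : IsPGroup 2 V := by
        intro a
        refine ⟨1, ?_⟩
        apply Subtype.ext
        have := V4_sq a.1 a.2
        rw [pow_one, pow_two]
        exact this
      obtain ⟨P, hP⟩ := hVp.exists_le_sylow
      obtain ⟨g, hg⟩ := MulAction.exists_smul_eq (Equiv.Perm (Fin 4)) P S'
      rw [← hg, Sylow.smul_def, Sylow.pointwise_smul_def]
      intro v hv
      have h3 : v = MulAut.conj g • (g⁻¹ * v * g) := by
        rw [MulAut.smul_def, MulAut.conj_apply]; group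
      rw [h3]
      refine Subgroup.smul_mem_pointwise_smul _ _ _ (hP ?_)
      have h4 := hVn.conj_mem v hv g⁻¹
      rwa [inv_inv] at h4
    intro v hv
    obtain ⟨m, hm, hm2⟩ := h1 hv
    exact ⟨⟨m, hm⟩, hm2⟩
  obtain ⟨v, hv, hxv⟩ := V4_split (ρ ⟨x, hQM x.2⟩)
  obtain ⟨y, hy⟩ := hVQ v hv
  have h4 : ρ ⟨x, hQM x.2⟩ ^ 4 = 1 := by
    have hP : IsPGroup 2 (((Q : Subgroup Y).subgroupOf M).map ρ) := by
      have : IsPGroup 2 ((Q : Subgroup Y).subgroupOf M) := QM.2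
      exact this.map _
    exact pow_four_of_isPGroup hP ⟨⟨x, hQM x.2⟩, x.2, rfl⟩
  have h1 : f (x * y) ^ 2 = 1 := by
    apply key
    have h3 : (⟨((x * y : (Q : Subgroup Y)) : Y), hQM (x * y).2⟩ : M) = ⟨x, hQM x.2⟩ * ⟨y, hQM y.2⟩ := rfl
    rw [h3, map_mul, hy]
    exact hxv h4
  have h2 : f y ^ 2 = 1 := by
    apply key
    rw [hy]
    exact V4_sq v hv
  rw [map_mul, mul_pow, h2, mul_one] at h1
  exact h1

end Cfsg.Agent.H335.Sd.LemA
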