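import Cfsg.Agent.H335.Sd.LemA
import Cfsg.Agent.Lib.SylowNormalInf
import Mathlib.GroupTheory.NoncommPiCoprod

/-!
# S4579, frames: realness on `Q ∩ K₁ ⋯ K₄ T` (helper335)
-/

set_option autoImplicit false
set_option linter.unusedSectionVars false

namespace Cfsg.Agent.H335.Sd.LemB

open Cfsg.Agent.H643.Sd

variable {Y : Type*} [Group Y] [Finite Y]

/-- an exponent which is `1` modulo a power of two and kills the odd part -/
theorem exists_exp (x : Y) {a : ℕ} (hx : x ^ 2 ^ a = 1) (b : ℕ) (hb : b ≠ 0) :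
    ∃ m : ℕ, x ^ m = x ∧ ∃ k : ℕ, b ∣ m * 2 ^ k := by
  obtain ⟨k, c, hc, hbc⟩ := Nat.exists_eq_two_pow_mul_odd hb
  have hcop : (2 ^ a).Coprime c := Nat.Coprime.pow_left a (Nat.coprime_two_left.2 hc)
  obtain ⟨m, hm1, hm2⟩ := Nat.chineseRemainder hcop 1 0
  refine ⟨m, ?_, k, ?_⟩
  · have h1 : m ≡ 1 [MOD orderOf x] := hm1.of_dvd (orderOf_dvd_of_pow_eq_one hx)
    have h2 := (pow_eq_pow_iff_modEq (x := x)).2 h1
    rwa [pow_one] at h2
  · rw [hbc]
    have h1 : c ∣ m := (Nat.modEq_zero_iff_dvd).1 hm2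
    rw [mul_comm m]
    exact mul_dvd_mul_left _ h1

/-- `f` is real on `Q ∩ N₁ T`. -/
theorem real_on_sup (Q : Sylow 2 Y) (N1 T : Subgroup Y) (hn : ∀ t ∈ T, ∀ x ∈ N1, t * x * t⁻¹ ∈ N1)
    (hT : ∀ t ∈ T, (∃ k : ℕ, t ^ 2 ^ k = 1) → t ∈ (Q : Subgroup Y)) (f : (Q : Subgroup Y) →* ℂˣ)
    (h1 : ∀ x : (Q : Subgroup Y), (x : Y) ∈ N1 → f x ^ 2 = 1)
    (h2 : ∀ x : (Q : Subgroup Y), (x : Y) ∈ T → f x ^ 2 = 1) :
    ∀ x : (Q : Subgroup Y), (x : Y) ∈ N1 ⊔ T → f x ^ 2 = 1 := by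
  intro x hx
  have hnT : T ≤ Subgroup.normalizer (N1 : Set Y) := by
    intro t ht
    rw [Subgroup.mem_normalizer_iff]
    intro y
    refine ⟨fun hy => hn t ht y hy, fun hy => ?_⟩
    have h3 := hn t⁻¹ (inv_mem ht) _ hy
    have h4 : t⁻¹ * (t * y * t⁻¹) * t⁻¹⁻¹ = y := by group
    rwa [h4] at h3
  obtain ⟨n, hn1, t, ht, hnt⟩ : ∃ n ∈ N1, ∃ t ∈ T, n * t = (x : Y) := by
    have h3 : (x : Y) ∈ ((N1 ⊔ T : Subgroup Y) : Set Y) := hx
    rw [Subgroup.coe_mul_of_right_le_normalizer_left _ _ hnT, Set.mem_mul] at h3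
    exact h3
  obtain ⟨a, ha⟩ := Q.2 x
  have ha' : (x : Y) ^ 2 ^ a = 1 := by simpa using congrArg Subtype.val ha
  obtain ⟨m, hm, k, hk⟩ := exists_exp (x : Y) ha' (Nat.card Y) Nat.card_pos.ne'
  have hpow : ∀ j : ℕ, ∃ y ∈ N1, (x : Y) ^ j = y * t ^ j := by
    intro j
    induction j with
    | zero => exact ⟨1, one_mem _, by simp⟩
    | succ j ih =>
      obtain ⟨y, hy, e⟩ := ih
      refine ⟨y * (t ^ j * n * (t ^ j)⁻¹), mul_mem hy (hn _ (pow_mem ht j) n hn1), ?_⟩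
      rw [pow_succ, e, ← hnt, pow_succ]
      group
  obtain ⟨y, hy, e⟩ := hpow m
  rw [hm] at e
  have htm : t ^ m ∈ (Q : Subgroup Y) := by
    refine hT _ (pow_mem ht m) ⟨k, ?_⟩
    rw [← pow_mul]
    obtain ⟨c, hc⟩ := hk
    rw [hc, pow_mul, pow_card_eq_one', one_pow]
  have hyQ : y ∈ (Q : Subgroup Y) := by
    have h3 : y = (x : Y) * (t ^ m)⁻¹ := by rw [e]; group
    rw [h3]
    exact mul_mem x.2 (inv_mem htm)
  have h3 : x = ⟨y, hyQ⟩ * ⟨t ^ m, htm⟩ := Subtype.ext e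
  rw [h3, map_mul, mul_pow, h1 ⟨y, hyQ⟩ hy, h2 ⟨t ^ m, htm⟩ (pow_mem ht m), one_mul]

/-- a `2`-element normalising a Sylow `2`-subgroup belongs to it -/
theorem mem_sylow_of_normalizes {G : Type*} [Group G] [Finite G] (P : Sylow 2 G) {g : G} {k : ℕ}
    (hg : g ^ 2 ^ k = 1) (hn : ∀ x ∈ (P : Subgroup G), g * x * g⁻¹ ∈ (P : Subgroup G)) : g ∈ (P : Subgroup G) := by
  have hp : IsPGroup 2 (Subgroup.zpowers g) := by
    rw [IsPGroup.iff_card]
    have h1 : orderOf g ∣ 2 ^ k := orderOf_dvd_of_pow_eq_one hg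
    rw [Nat.card_zpowers]
    exact ((Nat.dvd_prime_pow Nat.prime_two).1 h1).imp fun n hn => hn.2
  have hgn : g ∈ Subgroup.normalizer ((P : Subgroup G) : Set G) := by
    have h1 : ((P : Subgroup G)).map (MulAut.conj g).toMonoidHom = (P : Subgroup G) := by
      apply Subgroup.eq_of_le_of_card_ge
      · rintro _ ⟨x, hx, rfl⟩
        exact hn x hx
      · exact (Nat.card_congr (((P : Subgroup G)).equivMapOfInjective _ (MulAut.conj g).injective).toEquiv).le
    rw [Subgroup.mem_normalizer_iff]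
    intro x
    refine ⟨fun hx => hn x hx, fun hx => ?_⟩
    have h2 : g * x * g⁻¹ ∈ ((P : Subgroup G)).map (MulAut.conj g).toMonoidHom := by rw [h1]; exact hx
    obtain ⟨y, hy, e⟩ := h2
    have h3 : y = x := (MulAut.conj g).injective e
    rwa [← h3]
  have hle : Subgroup.zpowers g ≤ Subgroup.normalizer ((P : Subgroup G) : Set G) := by
    rw [Subgroup.zpowers_le]
    exact hgn
  have h1 : IsPGroup 2 ↥((P : Subgroup G) ⊔ Subgroup.zpowers g) :=
    IsPGroup.to_sup_of_normal_left' P.2 hp hle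
  have h2 := P.3 h1 le_sup_left
  rw [← h2]
  exact Subgroup.mem_sup_right (Subgroup.mem_zpowers g)

/-- If `Q ∩ L` is Sylow in `L` and `K ≤ L` is normal in `L`, then `Q ∩ K` is Sylow in `K`. -/
theorem not_dvd_relIndex_of (Q : Subgroup Y) (hQ : IsPGroup 2 Q) {K L : Subgroup Y} (hKL : K ≤ L)
    (hn : ∀ m ∈ L, ∀ x ∈ K, m * x * m⁻¹ ∈ K) (h : ¬ 2 ∣ Q.relIndex L) : ¬ 2 ∣ Q.relIndex K := by
  have hp : IsPGroup 2 (Q.subgroupOf L) := hQ.comap_of_injective L.subtype L.subtype_injective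
  set S : Sylow 2 L := hp.toSylow h with hS
  have hS' : (S : Subgroup L) = Q.subgroupOf L := IsPGroup.toSylow_coe _ _
  have hN : (K.subgroupOf L).Normal := by
    refine ⟨fun x hx g => ?_⟩
    rw [Subgroup.mem_subgroupOf] at hx ⊢
    exact hn g g.2 x hx
  have h1 := Cfsg.Agent.Lib.SylowNormalInf.not_dvd_relIndex S (K.subgroupOf L)
  rwa [hS', Subgroup.relIndex_subgroupOf hKL] at h1

/-- A linear character of `Q` is real on `Q ∩ K` if `K` has `Elem` and `Q ∩ K` is Sylow in `K`. -/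
theorem real_of_elem (Q : Sylow 2 Y) {K : Subgroup Y} (hK : Elem K) (h : ¬ 2 ∣ (Q : Subgroup Y).relIndex K)
    (f : (Q : Subgroup Y) →* ℂˣ) (x : (Q : Subgroup Y)) (hx : (x : Y) ∈ K) : f x ^ 2 = 1 := by
  have hp : IsPGroup 2 ((Q : Subgroup Y).subgroupOf K) := Q.2.comap_of_injective K.subtype K.subtype_injective
  set S : Sylow 2 K := hp.toSylow h with hS
  have hS' : (S : Subgroup K) = (Q : Subgroup Y).subgroupOf K := IsPGroup.toSylow_coe _ _
  have hmem : ∀ y : (S : Subgroup K), ((y : K) : Y) ∈ (Q : Subgroup Y) := by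
    intro y
    exact hS'.le y.2
  let i : (S : Subgroup K) →* (Q : Subgroup Y) :=
    { toFun := fun y => ⟨((y : K) : Y), hmem y⟩
      map_one' := rfl
      map_mul' := fun _ _ => rfl }
  have hxS : (⟨(x : Y), hx⟩ : K) ∈ (S : Subgroup K) := by
    rw [hS', Subgroup.mem_subgroupOf]
    exact x.2
  exact hK S (f.comp i) ⟨⟨(x : Y), hx⟩, hxS⟩

/-- **Blocks**: `K k` pairwise commuting, all `Q ∩ K k` Sylow in `K k`. Then every `2`-element of `Q ∩ ⨆ K k` is a product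
of elements of the `Q ∩ K k`. -/
theorem real_on_blocks (Q : Sylow 2 Y) (K : Fin 4 → Subgroup Y)
    (hcomm : ∀ k l, k ≠ l → ∀ x ∈ K k, ∀ y ∈ K l, x * y = y * x)
    (hQ : ∀ k, ¬ 2 ∣ (Q : Subgroup Y).relIndex (K k)) (hE : ∀ k, Elem (K k)) (f : (Q : Subgroup Y) →* ℂˣ)
    (x : (Q : Subgroup Y)) (hx : (x : Y) ∈ ⨆ k, K k) : f x ^ 2 = 1 := by
  classical
  have hcomm' : Pairwise fun i j : Fin 4 => ∀ x y : Y, x ∈ K i → y ∈ K j → Commute x y :=
    fun i j hij a b ha hb => hcomm i j hij a ha b hb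
  obtain ⟨y, hy⟩ : ∃ y : (k : Fin 4) → K k, Subgroup.noncommPiCoprod hcomm' y = (x : Y) := by
    have h1 : (x : Y) ∈ (Subgroup.noncommPiCoprod hcomm').range := by
      rw [Subgroup.noncommPiCoprod_range]
      exact hx
    exact h1
  obtain ⟨a, ha⟩ := Q.2 x
  have ha' : (x : Y) ^ 2 ^ a = 1 := by simpa using congrArg Subtype.val ha
  obtain ⟨m, hm, k, hk⟩ := exists_exp (x : Y) ha' (Nat.card Y) Nat.card_pos.ne'
  -- replace `y` by `z = y ^ m`
  set z : (k : Fin 4) → K k := y ^ m with hz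
  have hzx : Subgroup.noncommPiCoprod hcomm' z = (x : Y) := by rw [hz, map_pow, hy, hm]
  have hz2 : ∀ i, ((z i : K i) : Y) ^ 2 ^ k = 1 := by
    intro i
    have h1 : ((z i : K i) : Y) = (y i : Y) ^ m := by rw [hz]; simp
    rw [h1, ← pow_mul]
    obtain ⟨c, hc⟩ := hk
    rw [hc, pow_mul, pow_card_eq_one', one_pow]
  -- `x = z i * (element commuting with K i)`
  have hsplit : ∀ i, ∃ r : Y, (∀ u ∈ K i, r * u = u * r) ∧ (x : Y) = (z i : Y) * r := by
    intro i
    refine ⟨Subgroup.noncommPiCoprod hcomm' (Pi.mulSingle i (z i)⁻¹ * z), ?_, ?_⟩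
    · have h1 : ∀ w : (k : Fin 4) → K k, w i = 1 → ∀ u ∈ K i,
          Subgroup.noncommPiCoprod hcomm' w * u = u * Subgroup.noncommPiCoprod hcomm' w := by
        intro w hw u hu
        have h2 : Subgroup.noncommPiCoprod hcomm' (Pi.mulSingle i (⟨u, hu⟩ : K i)) = u := by
          rw [Subgroup.noncommPiCoprod_mulSingle]
        rw [← h2, ← map_mul, ← map_mul]
        congr 1
        funext j
        by_cases hj : j = i
        · subst hj
          rw [Pi.mul_apply, Pi.mul_apply, hw, one_mul, mul_one]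
        · rw [Pi.mul_apply, Pi.mul_apply, Pi.mulSingle_eq_of_ne hj, one_mul, mul_one]
      apply h1
      rw [Pi.mul_apply, Pi.mulSingle_eq_same, inv_mul_cancel]
    · rw [map_mul, Subgroup.noncommPiCoprod_mulSingle, hzx]
      simp
  have hzQ : ∀ i, ((z i : K i) : Y) ∈ (Q : Subgroup Y) := by
    intro i
    obtain ⟨r, hr, e⟩ := hsplit i
    have hp : IsPGroup 2 ((Q : Subgroup Y).subgroupOf (K i)) :=
      Q.2.comap_of_injective (K i).subtype (K i).subtype_injective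
    set S : Sylow 2 (K i) := hp.toSylow (hQ i) with hS
    have hS' : (S : Subgroup (K i)) = (Q : Subgroup Y).subgroupOf (K i) := IsPGroup.toSylow_coe _ _
    have h1 : z i ∈ (S : Subgroup (K i)) := by
      refine mem_sylow_of_normalizes S (k := k) ?_ ?_
      · apply Subtype.ext
        simpa using hz2 i
      · intro u hu
        rw [hS', Subgroup.mem_subgroupOf] at hu ⊢
        have h3 : (x : Y) * u * (x : Y)⁻¹ ∈ (Q : Subgroup Y) := mul_mem (mul_mem x.2 hu) (inv_mem x.2)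
        have h4 : (x : Y) * u * (x : Y)⁻¹ = (z i : Y) * u * (z i : Y)⁻¹ := by
          rw [e, mul_assoc (z i : Y) r, hr u u.2]
          group
        rw [h4] at h3
        exact h3
    rw [hS', Subgroup.mem_subgroupOf] at h1
    exact h1
  -- conclusion
  have h1 : x = (List.finRange 4).foldr (fun i w => (⟨(z i : Y), hzQ i⟩ : (Q : Subgroup Y)) * w) 1 := by
    apply Subtype.ext
    have h2 : ∀ l : List (Fin 4), (((l.foldr (fun i w => (⟨(z i : Y), hzQ i⟩ : (Q : Subgroup Y)) * w) 1 :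
        (Q : Subgroup Y))) : Y) = (l.map fun i => (z i : Y)).prod := by
      intro l
      induction l with
      | nil => rfl
      | cons i l ih => rw [List.foldr_cons, List.map_cons, List.prod_cons, ← ih]; rfl
    rw [h2, ← hzx]
    simp only [List.finRange_succ, List.finRange_zero, List.map_nil, List.map_cons, List.prod_cons, List.prod_nil,
      Fin.succ_zero_eq_one, mul_one]
    have h3 : z = Pi.mulSingle 0 (z 0) * (Pi.mulSingle 1 (z 1) * (Pi.mulSingle 2 (z 2) * Pi.mulSingle 3 (z 3))) := by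
      funext j
      fin_cases j <;> simp [Pi.mul_apply]
    conv_lhs => rw [h3]
    rw [map_mul, map_mul, map_mul]
    simp only [Subgroup.noncommPiCoprod_mulSingle]
    rfl
  rw [h1]
  have h2 : ∀ l : List (Fin 4), f (l.foldr (fun i w => (⟨(z i : Y), hzQ i⟩ : (Q : Subgroup Y)) * w) 1) ^ 2 = 1 := by
    intro l
    induction l with
    | nil => rw [List.foldr_nil, map_one, one_pow]
    | cons i l ih =>
      rw [List.foldr_cons, map_mul, mul_pow, ih, mul_one]
      exact real_of_elem Q (hE i) (hQ i) f _ (z i).2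
  exact h2 _

end Cfsg.Agent.H335.Sd.LemB
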