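import Cfsg.Agent.H335.Sd.ESix
import Cfsg.Agent.H491.Sd.FrE6
import Cfsg.Agent.H641.Sd.E6

/-!
# S4579: `Row` for `E₆(q)` (helper335, from the parts of helper641, helper491, helper55, helper150)
-/

set_option autoImplicit false
set_option linter.unusedSectionVars false

namespace Cfsg.Agent.H335.Sd.RowE6

open CoxeterSystem Cfsg.Agent.ChevalleyStructure.CoxeterGeom
open Cfsg.Lie Cfsg.Agent.Nodes.RGDChev Cfsg.Agent.ClosedExc Cfsg.Agent.ClosedExc.WFr Cfsg.Agent.ClosedExc.Chev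
open Cfsg.Agent.H775.Sd.ChevElem Cfsg.Agent.H643.Sd Cfsg.Agent.H55.Sd Cfsg.Agent.H335.Sd.ESix
open Cfsg.Agent.ClosedExc.Families

universe u

/-- **Frames and realness for `E₆(q)`, `q` odd.** -/
theorem frames_real_E6 (K : Type) [Field K] [Fintype K] (p : ℕ) [Fact p.Prime] [CharP K p] (hp2 : p ≠ 2) :
    ∃ 𝓜, Frames (H641.Sd.E6.T K) 𝓜 ∧ RealOnT (H641.Sd.E6.U K) (H641.Sd.E6.T K) 𝓜 := by
  have hp : p.Prime := Fact.out
  have hK : Odd (Fintype.card K) := by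
    obtain ⟨n, -, hn⟩ := FiniteField.card K p
    rw [hn]
    exact (hp.odd_of_ne_two hp2).pow
  have h4 := (wframe' CoxeterMatrix.E₆.toCoxeterSystem isType_E6.isCartan tabE6 okE6).2.2.2
  have F := frameData isType_E6 (K := K) CoxeterMatrix.E₆.toCoxeterSystem tabE6 okE6
    (fun a ha b hb hab => orth_of (orth1E6 a ha b hb hab))
  refine ⟨H491.Sd.Fr (rgd (K := K) isType_E6 CoxeterMatrix.E₆.toCoxeterSystem p) (bet 6 cE6 4)
    (Subgroup.closure (Gm CoxeterMatrix.E₆.toCoxeterSystem cE6)), ?_, ?_⟩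
  · exact H491.Sd.FrE6.frames_e6 K CoxeterMatrix.E₆.toCoxeterSystem p hK H491.Sd.FrE6.card_W F (by simp) h4
  · exact realOnT_E6 K hK p _

/-- **`Row` for `E₆(q)`.** -/
theorem row_e6 {S : Type u} [Group S] [Finite S] [IsSimpleGroup S] (h : Cfsg.Lie.IsoChevE6 S) : Row S :=
  H641.Sd.E6.row_e6_of (fun K _ _ p _ _ hp2 => frames_real_E6 K p hp2) h

end Cfsg.Agent.H335.Sd.RowE6
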