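import Cfsg.Agent.H335.Sd.ESix
import Cfsg.Agent.H557.LrTwE
import Cfsg.Agent.H491.Sd.FrTw

/-!
# S4579, frames: `²E₆(q)`, `q` odd (helper335)
-/

set_option autoImplicit false
set_option linter.unusedSectionVars false
set_option maxRecDepth 100000

namespace Cfsg.Agent.H335.Sd.TwESix

open CoxeterSystem Cfsg.Agent.ChevalleyStructure.CoxeterGeom Cfsg.Agent.Tits.Roots Cfsg.Agent.Tits.Core
  Cfsg.Agent.Nodes.Reps Cfsg.Agent.Nodes.BNOf Cfsg.Agent.Nodes.Bruhat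
open Cfsg.Lie Cfsg.Agent.ChevalleyStructure Cfsg.Agent.ChevalleyStructure.Elts
open Cfsg.Agent.Nodes Cfsg.Agent.Nodes.RGDFoldSL
open Cfsg.Agent.Nodes.RGDTwE6 (X nn isCartan foldData)
open Cfsg.Agent.Nodes.FreeTorus (LL)
open Cfsg.Agent.ClosedExc Cfsg.Agent.ClosedExc.Frame Cfsg.Agent.ClosedExc.WFr Cfsg.Agent.ClosedTw
open Cfsg.Agent.H557.LrSgn Cfsg.Agent.H775.Sd.Sgn Cfsg.Agent.H775.Sd.ChevElem Cfsg.Agent.H643.Sd Cfsg.Agent.H55.Sd
open Cfsg.Agent.H335.Sd.LemA Cfsg.Agent.H335.Sd.Frame Cfsg.Agent.H335.Sd.Invol Cfsg.Agent.H335.Sd.RealT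
  Cfsg.Agent.H335.Sd.ESix
open Cfsg.Agent.UGT.U2.FOne.TwESix (P P_wS range_P zn)
open Cfsg.Agent.H557.LrTwE (sgn_zn)

theorem wS_sq {F : Type*} [Field F] : (wS (1 : F) * wS 1 : Matrix.SpecialLinearGroup (Fin 2) F) = -1 := by
  apply Subtype.ext
  rw [Matrix.SpecialLinearGroup.coe_mul, coe_wS one_ne_zero, Matrix.SpecialLinearGroup.coe_neg,
    Matrix.SpecialLinearGroup.coe_one]
  ext i j
  fin_cases i <;> fin_cases j <;> simp [Matrix.mul_apply, Fin.sum_univ_two]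

theorem chkITw : ChkI 4 4 cTwE6 := by unfold ChkI; decide +kernel

section

variable {K : Type} [Field K] [Fintype K] {q : ℕ} {φ : K →+* K} (hφ : ∀ x, φ x = x ^ q)
  (hqq : ∀ t : K, (t ^ q) ^ q = t) (p : ℕ) [Fact p.Prime] [CharP K p] {W : Type*} [Group W] [Finite W]
  (cs : CoxeterSystem CoxeterMatrix.F₄ W)

include hqq in
/-- the representatives of the simple reflections -/
theorem simple_lift (i : Fin 4) : ∃ m ∈ LL (X φ q) (sr i),
    Rp cs (RGDTwE6.rgd cs hφ hqq p).nsys (cs.simple i) m ∧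
      SgnEl cs isCartan (RGDTwE6.T K q) (X φ q) (ph RGDTwE6.A i) (m * m) := by
  refine ⟨nn hφ i, ?_, rp_simple cs _ i, ?_⟩
  · rw [← P_wS hφ hqq i]
    have h1 : (P hφ hqq i).range = LL (X φ q) (sr i) := range_P hφ hqq i
    rw [← h1]
    exact ⟨_, rfl⟩
  · have h1 : nn hφ i * nn hφ i = zn hφ hqq i := by
      rw [← P_wS hφ hqq i, ← map_mul, wS_sq]
      rfl
    rw [h1]
    have h2 := sgn_zn hφ hqq (cs := cs) i
    have h3 : ph RGDTwE6.A i = H557.LrChev.csz RGDTwE6.A [i] := by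
      refine DFunLike.ext _ _ fun x => ?_
      rw [H557.LrChev.csz_apply]
      show ((pairing RGDTwE6.A i x : ℤ) : ZMod 2) = _
      congr 1
      simp [GenExc.csv]
    rw [h3]
    exact h2

theorem frameData : FrameData cs isCartan (X φ q) (bet 4 cTwE6 4) (Subgroup.closure (Gm cs cTwE6)) := by
  obtain ⟨f1, f2, f3, f4⟩ := wframe' cs RGDTwE6.isCartan tabTwE6 okTwE6
  exact ⟨fun a => f1 a a.2, fun a b hab => lc_lst (orth1TwE6 a a.2 b b.2 fun e => hab (Fin.ext e)), f2, f3⟩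

/-- the frame group of `²E₆(q)` -/
noncomputable def MTw : Subgroup ↥(twistedE6 K q) :=
  FM (RGDTwE6.rgd cs hφ hqq p) (bet 4 cTwE6 4) (Subgroup.closure (Gm cs cTwE6))

/-- realness for `²E₆(q)` -/
theorem realTw (hq : 1 < q) (hK : Fintype.card K = q ^ 2) (ho : Odd q) (h2 : (2 : K) ≠ 0)
    (hcen : ∀ z : ↥(twistedE6 K q), (∀ y, z * y = y * z) → z = 1)
    (Q : Sylow 2 ↥(twistedE6 K q)) (hQ : (Q : Subgroup ↥(twistedE6 K q)) ≤ MTw hφ hqq p cs)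
    (hT : ∀ t ∈ RGDTwE6.T K q, (∃ k : ℕ, t ^ 2 ^ k = 1) → t ∈ (Q : Subgroup ↥(twistedE6 K q)))
    (f : (Q : Subgroup ↥(twistedE6 K q)) →* ℂˣ)
    (hf : ∀ x : (Q : Subgroup ↥(twistedE6 K q)), (x : ↥(twistedE6 K q)) ∈ RGDTwE6.T K q → f x ^ 2 = 1) :
    ∀ x, f x ^ 2 = 1 := by
  obtain ⟨f1, f2, f3, f4⟩ := wframe' cs RGDTwE6.isCartan tabTwE6 okTwE6
  refine real_of_frame (RGDTwE6.rgd cs hφ hqq p) (frameData cs) (fun i => (nodes hφ hqq hq hK ho h2 i).2)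
    (IsPGroup.of_card (n := 3) (by rw [f4]; norm_num)) rfl ?_ Q hQ hT f hf
  rintro w ⟨g, hg, rfl⟩
  obtain ⟨a, ha, hpar⟩ := chkITw g hg
  exact exists_invol (RGDTwE6.rgd cs hφ hqq p) tabTwE6 (simple_lift hφ hqq p cs) (RGDTwE6.G1_eq_top cs hφ hqq) hcen
    (okTwE6.gl g hg) ((orth2TwE6 g hg).imp fun h => lc_lst h) (okTwE6.fr a ha).1 hpar

include hφ hqq p cs in
/-- **Frames and realness for `²E₆(q)`, `q` odd.** -/
theorem frames_real_tw (hq : IsPrimePow q) (hK : Fintype.card K = q ^ 2) (ho : Odd q) (hW : Nat.card W = 1152)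
    (hcen : ∀ z : ↥(twistedE6 K q), (∀ y, z * y = y * z) → z = 1) (U : Subgroup ↥(twistedE6 K q)) :
    ∃ 𝓜, Frames (RGDTwE6.T K q) 𝓜 ∧ RealOnT U (RGDTwE6.T K q) 𝓜 := by
  have hKo : Odd (Fintype.card K) := by rw [hK]; exact ho.pow
  have h2 : (2 : K) ≠ 0 := SL.two_ne hKo
  obtain ⟨f1, f2, f3, f4⟩ := wframe' cs RGDTwE6.isCartan tabTwE6 okTwE6
  refine ⟨H491.Sd.Fr (RGDTwE6.rgd cs hφ hqq p) (bet 4 cTwE6 4) (Subgroup.closure (Gm cs cTwE6)), ?_, ?_⟩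
  · refine H491.Sd.FrTw.frames_tw hφ hqq cs p hq hK ho hW (frameData cs) (by simp) f4 fun a => ?_
    obtain ⟨b, hb⟩ := exists_ne a
    exact (long_of_mem cs (orth1TwE6 a a.2 b b.2 fun e => hb (Fin.ext e.symm))).1
  · exact realOnT_of U _ _ fun Q hQ hT f hf => realTw hφ hqq p cs hq.one_lt hK ho h2 hcen Q hQ hT f hf

end

end Cfsg.Agent.H335.Sd.TwESix
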